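import Cfsg.Agent.S1169
import Cfsg.Agent.S0222
import Cfsg.Agent.Lib.Unitary.SylowThree
import Cfsg.Agent.Lib.OneEvenOrder.OneComposite
import Cfsg.Agent.Lib.AbelianSylowUse.Eight

/-!
# Simple groups in which `N(⟨x⟩) = C(x)` for every 2-element `x` (owner: helper25)

* `commute_of_mem` : two involutions of a 2-subgroup commute
* `abelian_or_embedded` : so the involutions of a Sylow 2-subgroup form a strongly closed abelian
  subgroup, and Goldschmidt's theorem applies
* `psu_three_inverted` : `PSU₃(2ⁿ)` has an element of order four inverted inside a 2-subgroup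
* `cases_of_walter` : the list, from the classification for abelian Sylow 2-subgroups
-/

set_option autoImplicit false
set_option linter.unusedSectionVars false
set_option linter.style.haveILetI false

namespace Cfsg.Agent.TwoRealFree

open Subgroup

universe u

/-- No 2-element is conjugate to a different power of itself. -/
def Rigid (G : Type*) [Group G] : Prop :=
  ∀ x : G, (∀ r : ℕ, r.Prime → r ∣ orderOf x → r = 2) →
    Subgroup.normalizer ((Subgroup.zpowers x : Subgroup G) : Set G) ≤ Subgroup.centralizer {x}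

variable {G : Type u} [Group G] [Finite G]

/-- An element of a 2-subgroup sent to its inverse commutes with what does so. -/
theorem commute_of_inv (h : Rigid G) {T : Subgroup G} (hT : IsPGroup 2 T) {x g : G} (hx : x ∈ T)
    (hg : g * x * g⁻¹ = x⁻¹) : g * x = x * g := by
  have hx2 : ∀ r : ℕ, r.Prime → r ∣ orderOf x → r = 2 := by
    intro r hr hd
    obtain ⟨k, hk⟩ := hT ⟨x, hx⟩
    have hk' : x ^ 2 ^ k = 1 := congrArg Subtype.val hk
    exact (Nat.prime_dvd_prime_iff_eq hr Nat.prime_two).1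
      (hr.dvd_of_dvd_pow (hd.trans (orderOf_dvd_of_pow_eq_one hk')))
  have hgN : g ∈ normalizer ((zpowers x : Subgroup G) : Set G) := by
    refine mem_normalizer_iff.2 fun y => ⟨fun hy => ?_, fun hy => ?_⟩
    · obtain ⟨i, rfl⟩ := mem_zpowers_iff.1 hy
      exact mem_zpowers_iff.2 ⟨-i, by rw [← conj_zpow, hg, inv_zpow, zpow_neg]⟩
    · obtain ⟨i, hi⟩ := mem_zpowers_iff.1 hy
      refine mem_zpowers_iff.2 ⟨-i, ?_⟩
      apply mul_left_cancel (a := g)
      apply mul_right_cancel (b := g⁻¹)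
      rw [← conj_zpow, hg, inv_zpow, zpow_neg, inv_inv, hi]
  exact (mem_centralizer_iff.1 (h x hx2 hgN) x rfl).symm

/-- Two involutions of a 2-subgroup commute. -/
theorem commute_of_mem (h : Rigid G) {T : Subgroup G} (hT : IsPGroup 2 T) {u v : G} (hu : u ∈ T)
    (hv : v ∈ T) (hu2 : u * u = 1) (hv2 : v * v = 1) : u * v = v * u := by
  have hui : u⁻¹ = u := inv_eq_of_mul_eq_one_right hu2
  have hvi : v⁻¹ = v := inv_eq_of_mul_eq_one_right hv2
  have h1 := commute_of_inv h hT (T.mul_mem hu hv) (g := u) (by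
    rw [mul_inv_rev, hui, hvi, ← mul_assoc u u v, hu2, one_mul])
  rw [← mul_assoc, hu2, one_mul] at h1
  calc u * v = u * (u * v * u) := by rw [← h1]
    _ = v * u := by rw [← mul_assoc, ← mul_assoc, hu2, one_mul]

variable [IsSimpleGroup G]

/-- Goldschmidt: an abelian Sylow 2-subgroup or a strongly embedded subgroup. -/
theorem abelian_or_embedded (hna : ¬ IsMulCommutative G) (h : Rigid G) (S : Sylow 2 G) :
    IsMulCommutative (S : Subgroup G) ∨ ∃ H : Subgroup G, Cfsg.IsStronglyEmbedded H := by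
  haveI : Fact (Nat.Prime 2) := ⟨Nat.prime_two⟩
  let A : Subgroup G :=
    { carrier := {x | x ∈ (S : Subgroup G) ∧ x * x = 1}
      one_mem' := ⟨one_mem _, one_mul 1⟩
      mul_mem' := fun {a b} ha hb => ⟨mul_mem ha.1 hb.1, by
        have hc := commute_of_mem h S.2 ha.1 hb.1 ha.2 hb.2
        calc a * b * (a * b) = a * b * (b * a) := by rw [hc]
          _ = a * (b * b) * a := by group
          _ = 1 := by rw [hb.2, mul_one, ha.2]⟩
      inv_mem' := fun {a} ha => ⟨inv_mem ha.1, by rw [← mul_inv_rev, ha.2, inv_one]⟩ }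
  have hAc : IsMulCommutative A :=
    ⟨⟨fun a b => Subtype.ext (commute_of_mem h S.2 a.2.1 b.2.1 a.2.2 b.2.2)⟩⟩
  have hsc : Cfsg.IsStronglyClosed A (S : Subgroup G) := by
    refine ⟨fun x hx => hx.1, fun x hx g hg => ⟨hg, ?_⟩⟩
    calc g * x * g⁻¹ * (g * x * g⁻¹) = g * (x * x) * g⁻¹ := by group
      _ = 1 := by rw [hx.2, mul_one, mul_inv_cancel]
  have h2 : 2 ∣ Nat.card G := by
    by_contra hodd
    haveI := OddOrderTheorem.solvable (G := G) (Nat.not_even_iff_odd.1 fun he => hodd he.two_dvd)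
    exact hna ⟨⟨fun a b => IsSimpleGroup.comm_iff_isSolvable.2 inferInstance a b⟩⟩
  have hS : 2 ∣ Nat.card (S : Subgroup G) := S.dvd_card_of_dvd_card h2
  obtain ⟨z, hz⟩ := exists_prime_orderOf_dvd_card' (G := (S : Subgroup G)) 2 hS
  have hzA : (z : G) ∈ A := by
    refine ⟨z.2, ?_⟩
    have := pow_orderOf_eq_one z
    rw [hz, pow_two] at this
    exact congrArg Subtype.val this
  have hA : A ≠ ⊥ := fun hb => by
    have h1 : (z : G) = 1 := mem_bot.1 (hb ▸ hzA)
    rw [OneMemClass.coe_eq_one] at h1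
    rw [h1, orderOf_one] at hz
    omega
  exact S1169.result S A hA hAc hsc

/-- An element of order four and an element inverting it in the Sylow 2-subgroup of `PSU₃(2ⁿ)`. -/
theorem psu_three_inverted {F : Type} [Field F] [Fintype F] {q n : ℕ} (hn : 1 ≤ n) (hq : q = 2 ^ n)
    (hF : Fintype.card F = q ^ 2) (h2 : (2 : F) = 0) (S : Sylow 2 (Cfsg.PSU 3 F q)) :
    ∃ x g : Cfsg.PSU 3 F q, x ∈ (S : Subgroup (Cfsg.PSU 3 F q)) ∧ g * x * g⁻¹ = x⁻¹ ∧ g * x ≠ x * g := by
  obtain ⟨e⟩ := Unitary.exists_equiv hn hq hF h2 S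
  obtain ⟨b, hb⟩ := Unitary.exists_trace hF (1 : F)
  obtain ⟨b', hb'⟩ := Unitary.exists_trace hF b
  obtain ⟨x, hxA, hxB⟩ := Unitary.exists_mk (hF := hF) (h2 := h2) hb
  obtain ⟨g, hgA, hgB⟩ := Unitary.exists_mk (hF := hF) (h2 := h2) hb'
  rw [one_pow] at hb
  have hxinv : Unitary.coordA x⁻¹ = 1 ∧ Unitary.coordB x⁻¹ = b + 1 := by
    obtain ⟨h1, h3⟩ := Unitary.coord_mul x x⁻¹
    rw [mul_inv_cancel, Unitary.coord_one.1, hxA] at h1
    rw [mul_inv_cancel, Unitary.coord_one.2, hxA, hxB, one_pow, one_mul] at h3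
    have hA : Unitary.coordA x⁻¹ = 1 := by linear_combination -h1 - h2
    exact ⟨hA, by rw [hA] at h3; linear_combination -h3 - (b + 1) * h2⟩
  have hne : g * x ≠ x * g := fun he => by
    have h1 := congrArg Unitary.coordB he
    rw [(Unitary.coord_mul g x).2, (Unitary.coord_mul x g).2, hxA, hgA, one_pow] at h1
    exact one_ne_zero (show (1 : F) = 0 by linear_combination h1 - hb + b * h2)
  have heq : g * x = x⁻¹ * g := by
    refine Unitary.ext' ?_ ?_
    · rw [(Unitary.coord_mul g x).1, (Unitary.coord_mul x⁻¹ g).1, hxinv.1, hxA, add_comm]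
    · rw [(Unitary.coord_mul g x).2, (Unitary.coord_mul x⁻¹ g).2, hxinv.1, hxinv.2, hxA, hxB, hgA,
        one_pow]
      linear_combination hb - b * h2
  refine ⟨(e x : Cfsg.PSU 3 F q), (e g : Cfsg.PSU 3 F q), (e x).2, ?_, fun he => ?_⟩
  · rw [← Subgroup.coe_mul, ← Subgroup.coe_inv, ← Subgroup.coe_mul, ← Subgroup.coe_inv, ← map_mul,
      ← map_inv, ← map_mul, ← map_inv, heq, mul_inv_cancel_right]
  · exact hne (e.injective (Subtype.ext (by rw [map_mul, map_mul]; exact he)))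

/-- `PSU₃(2ⁿ)` is not rigid. -/
theorem not_psu_three (h : Rigid G) {F : Type} [Field F] [Fintype F] {q : ℕ}
    (hF : Fintype.card F = q ^ 2) (hq : Even q) (hq4 : 4 ≤ q) (e : G ≃* Cfsg.PSU 3 F q) : False := by
  haveI : Fact (Nat.Prime 2) := ⟨Nat.prime_two⟩
  have h2F : 2 ∣ Fintype.card F := hF ▸ dvd_pow (even_iff_two_dvd.1 hq) two_ne_zero
  obtain ⟨p, m, hp, hm, hpm⟩ := (isPrimePow_nat_iff _).1 (Fintype.isPrimePow_card_of_field (α := F))
  obtain rfl : p = 2 := ((Nat.prime_dvd_prime_iff_eq Nat.prime_two hp).1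
    (Nat.prime_two.dvd_of_dvd_pow (hpm ▸ h2F))).symm
  haveI : CharP F 2 := charP_of_card_eq_prime_pow (f := m) hpm.symm
  obtain ⟨n, -, hn⟩ := (Nat.dvd_prime_pow Nat.prime_two).1
    (show q ∣ 2 ^ m from hpm ▸ hF ▸ dvd_pow_self q two_ne_zero)
  have hn1 : 1 ≤ n := by
    rcases Nat.eq_zero_or_pos n with rfl | hn0
    · simp at hn; omega
    · exact hn0
  obtain ⟨S⟩ : Nonempty (Sylow 2 (Cfsg.PSU 3 F q)) := inferInstance
  obtain ⟨x, g, hxS, hg, hne⟩ := psu_three_inverted hn1 hn hF (by exact_mod_cast CharP.cast_eq_zero F 2) S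
  refine hne (e.symm.injective ?_)
  rw [map_mul, map_mul]
  refine commute_of_inv h (T := (S : Subgroup (Cfsg.PSU 3 F q)).map e.symm.toMonoidHom)
    (S.2.map _) ⟨x, hxS, rfl⟩ ?_
  show e.symm g * e.symm x * (e.symm g)⁻¹ = (e.symm x)⁻¹
  rw [← map_mul, ← map_inv, ← map_mul, hg, map_inv]

/-- The list. -/
theorem cases_of_walter (hW : AbelianSylowUse.WalterStatement.{u}) (hna : ¬ IsMulCommutative G)
    (h : Rigid G) :
    (∃ (F : Type) (_ : Field F) (_ : Fintype F), 4 ≤ Fintype.card F ∧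
        (Fintype.card F % 8 = 0 ∨ Fintype.card F % 8 = 3 ∨ Fintype.card F % 8 = 5) ∧
        Nonempty (G ≃* Matrix.ProjectiveSpecialLinearGroup (Fin 2) F)) ∨
    Cfsg.IsSuzuki G ∨ Cfsg.IsRee G ∨ Cfsg.IsJ1 G := by
  have hnc : ∃ a b : G, a * b ≠ b * a := by
    by_contra hc
    push Not at hc
    exact hna ⟨⟨hc⟩⟩
  have key : ∀ (F : Type) [Field F] [Fintype F] (n : ℕ), 2 ≤ n → Fintype.card F = 2 ^ n →
      (G ≃* Matrix.ProjectiveSpecialLinearGroup (Fin 2) F) →
      ∃ (F : Type) (_ : Field F) (_ : Fintype F), 4 ≤ Fintype.card F ∧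
        (Fintype.card F % 8 = 0 ∨ Fintype.card F % 8 = 3 ∨ Fintype.card F % 8 = 5) ∧
        Nonempty (G ≃* Matrix.ProjectiveSpecialLinearGroup (Fin 2) F) := by
    intro F _ _ n hn hF e
    rcases Nat.lt_or_ge n 3 with h3 | h3
    · obtain rfl : n = 2 := by omega
      haveI : Fact (Nat.Prime 5) := ⟨Nat.prime_five⟩
      obtain ⟨f⟩ := OneEvenOrder.psl_four_equiv (F := F) (by rw [hF]; norm_num)
      exact ⟨ZMod 5, inferInstance, inferInstance, by simp, by simp, ⟨e.trans f⟩⟩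
    · have h4 : 4 ≤ Fintype.card F := by
        rw [hF]
        calc 4 = 2 ^ 2 := rfl
          _ ≤ 2 ^ n := Nat.pow_le_pow_right (by norm_num) hn
      have h8 : Fintype.card F % 8 = 0 := by
        rw [hF]
        exact Nat.mod_eq_zero_of_dvd (pow_dvd_pow 2 h3)
      exact ⟨F, inferInstance, inferInstance, h4, Or.inl h8, ⟨e⟩⟩
  obtain ⟨S⟩ : Nonempty (Sylow 2 G) := inferInstance
  rcases abelian_or_embedded hna h S with hS | ⟨H, hH⟩
  · rcases hW G hna S hS with ⟨a, ha, F, _, _, hF, ⟨e⟩⟩ | ⟨F, _, _, hF, ⟨e⟩⟩ | hR | hJ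
    · exact Or.inl (key F a ha hF e)
    · exact Or.inl ⟨F, _, _, OneEvenOrder.four_le_card hnc e, Or.inr hF, ⟨e⟩⟩
    · exact Or.inr (Or.inr (Or.inl hR))
    · exact Or.inr (Or.inr (Or.inr hJ))
  · rcases S0222.result hnc H hH with ⟨F, _, _, hc, h4, ⟨e⟩⟩ | hSz | ⟨F, _, _, q, hF, hq, hq4, ⟨e⟩⟩
    · haveI := hc
      obtain ⟨n, -, hF⟩ := FiniteField.card F 2
      refine Or.inl (key F n ?_ hF e)
      rw [hF] at h4
      by_contra hlt
      have := Nat.pow_le_pow_right (show 0 < 2 by norm_num) (show (n : ℕ) ≤ 1 by omega)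
      omega
    · exact Or.inr (Or.inl hSz)
    · exact (not_psu_three h hF hq hq4 e).elim

end Cfsg.Agent.TwoRealFree
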